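import Cfsg.Agent.H896.EP.UCount
import Cfsg.Agent.S3948
import Cfsg.Agent.S0496
import Cfsg.Agent.S0280
import Cfsg.Agent.S0283
import Cfsg.Agent.S0815

/-!
# S3499-IV-L U5(2) (helper896)

`EPT A Γ`, `N ≤ A` normal, `N ≅ PSU_5(2)`, `C_A(N) = 1`: `|Q : A| ≤ 2 ^ 61`.
-/

set_option autoImplicit false
set_option linter.unusedSectionVars false

namespace Cfsg.Agent.H896.EP

open Subgroup Cfsg.Agent.H284 Cfsg.Agent.H59.EP

universe u

/-! ### arithmetic -/

theorem fac_eq {n p k m : ℕ} (hp : p.Prime) (hn : n = p ^ k * m) (hm : ¬ p ∣ m) : n.factorization p = k := by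
  have h0 : m ≠ 0 := by
    rintro rfl
    exact hm (dvd_zero p)
  rw [hn, Nat.factorization_mul (pow_ne_zero _ hp.ne_zero) h0, Finsupp.add_apply, hp.factorization_pow,
    Finsupp.single_eq_same, Nat.factorization_eq_zero_of_not_dvd hm, add_zero]

theorem prime_dvd {a p : ℕ} (hp : p.Prime) (h : p ∣ 2 ^ a * 3 ^ 5 * 5 * 11) : p = 2 ∨ p = 3 ∨ p = 5 ∨ p = 11 := by
  rcases (Nat.Prime.dvd_mul hp).1 h with h | h
  · rcases (Nat.Prime.dvd_mul hp).1 h with h | h
    · rcases (Nat.Prime.dvd_mul hp).1 h with h | h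
      · exact Or.inl ((Nat.prime_dvd_prime_iff_eq hp Nat.prime_two).1 (hp.dvd_of_dvd_pow h))
      · exact Or.inr (Or.inl ((Nat.prime_dvd_prime_iff_eq hp Nat.prime_three).1 (hp.dvd_of_dvd_pow h)))
    · exact Or.inr (Or.inr (Or.inl ((Nat.prime_dvd_prime_iff_eq hp Nat.prime_five).1 h)))
  · exact Or.inr (Or.inr (Or.inr ((Nat.prime_dvd_prime_iff_eq hp (by norm_num)).1 h)))

/-- the sum over the odd primes -/
theorem sum_gal {n a : ℕ} (hn : n = 2 ^ a * 3 ^ 5 * 5 * 11) (ha : a = 10 ∨ a = 11) :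
    ∑ s ∈ n.primeFactors.erase 2, gal s (n.factorization s) ≤ 2665 := by
  have hsub : n.primeFactors.erase 2 ⊆ {3, 5, 11} := by
    intro s hs
    rw [Finset.mem_erase] at hs
    have h1 := prime_dvd (Nat.prime_of_mem_primeFactors hs.2) (a := a) (by
      rw [← hn]; exact Nat.dvd_of_mem_primeFactors hs.2)
    simp only [Finset.mem_insert, Finset.mem_singleton]
    exact h1.resolve_left hs.1
  refine (Finset.sum_le_sum_of_subset hsub).trans ?_
  have h3 : n.factorization 3 = 5 := by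
    refine fac_eq (m := 2 ^ a * 5 * 11) Nat.prime_three (by rw [hn]; ring) ?_
    rcases ha with rfl | rfl <;> norm_num
  have h5 : n.factorization 5 = 1 := by
    refine fac_eq (m := 2 ^ a * 3 ^ 5 * 11) Nat.prime_five (by rw [hn]; ring) ?_
    rcases ha with rfl | rfl <;> norm_num
  have h11 : n.factorization 11 = 1 := by
    refine fac_eq (m := 2 ^ a * 3 ^ 5 * 5) (by norm_num) (by rw [hn]; ring) ?_
    rcases ha with rfl | rfl <;> norm_num
  rw [Finset.sum_insert (by norm_num), Finset.sum_insert (by norm_num), Finset.sum_singleton, h3, h5, h11]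
  decide

theorem sq_ndvd {n a : ℕ} (hn : n = 2 ^ a * 3 ^ 5 * 5 * 11) (ha : a = 10 ∨ a = 11) :
    ∀ p, p.Prime → 5 ≤ p → ¬ p ^ 2 ∣ n := by
  intro p hp hp5 hd
  rw [hn] at hd
  rcases prime_dvd hp ((dvd_pow_self p two_ne_zero).trans hd) with h | h | h | h
  · omega
  · omega
  · subst h
    rcases ha with rfl | rfl <;> norm_num at hd
  · subst h
    rcases ha with rfl | rfl <;> norm_num at hd

/-! ### the orders -/

theorem card_U5 {F : Type*} [Field F] [Fintype F] (hF : Fintype.card F = 4) :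
    Nat.card (Cfsg.PSU 5 F 2) = 13685760 := by
  have h1 := Cfsg.Agent.S0280.result (F := F) (q := 2) (by rw [hF]; norm_num) 5 (by norm_num)
  have h2 : Nat.gcd 5 (2 + 1) = 1 := by norm_num
  rw [h2] at h1
  simp only [Finset.prod_range_succ, Finset.prod_range_zero] at h1
  norm_num at h1
  omega

theorem card_aut_U5 {F : Type*} [Field F] [Fintype F] (hF : Fintype.card F = 4) :
    Nat.card (MulAut (Cfsg.PSU 5 F 2)) = 2 * 13685760 := by
  have : Fact (Nat.Prime 2) := ⟨Nat.prime_two⟩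
  have h1 := Cfsg.Agent.S0815.result (F := F) 2 1 le_rfl (q := 2) (by norm_num) (by rw [hF]; norm_num) 5 (by norm_num)
    (by norm_num)
  rw [h1, card_U5 hF]
  norm_num

variable {Q : Type u} [Group Q] [Finite Q] {A : Subgroup Q} {Γ : Subgroup (MulAut Q)} {N : Subgroup Q}

theorem card_le_aut (hN : N ≤ A) (hn : ∀ a ∈ A, ∀ n ∈ N, a * n * a⁻¹ ∈ N)
    (hC : ∀ a ∈ A, (∀ n ∈ N, a * n = n * a) → a = 1) : Nat.card A ≤ Nat.card (MulAut N) := by
  have hNn : (N.subgroupOf A).Normal := ⟨fun n hn' a => hn a a.2 n hn'⟩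
  have hinj : Function.Injective (MulAut.conjNormal (H := N.subgroupOf A) : A →* MulAut (N.subgroupOf A)) := by
    rw [injective_iff_map_eq_one]
    intro a ha
    apply Subtype.ext
    apply hC a a.2
    intro n hn'
    have h1 : MulAut.conjNormal (H := N.subgroupOf A) a ⟨⟨n, hN hn'⟩, hn'⟩ = ⟨⟨n, hN hn'⟩, hn'⟩ := by
      rw [ha]
      rfl
    have h2 := congrArg (fun z : N.subgroupOf A => ((z : A) : Q)) h1
    simp only [MulAut.conjNormal_apply] at h2
    have h3 : (a : Q) * n * (a : Q)⁻¹ = n := h2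
    rw [mul_inv_eq_iff_eq_mul] at h3
    exact h3
  have h1 := Nat.card_le_card_of_injective _ hinj
  have h2 : Nat.card (MulAut (N.subgroupOf A)) = Nat.card (MulAut N) :=
    Nat.card_congr (MulAut.congr (Subgroup.subgroupOfEquivOfLe hN)).toEquiv
  rwa [h2] at h1

/-- the small simple sections -/
theorem gen_data (hA : ¬ 7 ∣ Nat.card A) (X : Subgroup A) (hX : IsSimpleGroup X) (hns : ¬ Group.IsSolvable X) :
    (∃ a b : X, closure ({a, b} : Set X) = ⊤) ∧ (Nat.card X < 360 → Nat.card X = 60) := by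
  refine ⟨Cfsg.Agent.S3948.result, fun hlt => ?_⟩
  have hc : ¬ IsMulCommutative X := by
    intro hc
    apply hns
    apply Group.isSolvable_of_comm
    exact fun a b => mul_comm' a b
  have h1 := Cfsg.Agent.S0496.result (G := X) hc (by omega)
  rcases h1 with h1 | h1 | h1 | h1 | h1 | h1
  · exact h1
  · exfalso
    apply hA
    have h2 : Nat.card X ∣ Nat.card A := Subgroup.card_subgroup_dvd_card X
    rw [h1] at h2
    exact (by norm_num : 7 ∣ 168).trans h2
  all_goals omega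

theorem index_le_c {μ : ℕ} (hμ : 0 < μ) (hmu : ∀ x, x ∉ A → μ ≤ Nat.card (A ⊓ cj x A : Subgroup Q)) :
    ∀ x, x ∉ A → ((A ⊓ cj x A).subgroupOf A).index ≤ Nat.card A / μ := by
  intro x hx
  rw [Nat.le_div_iff_mul_le hμ]
  have h1 := Subgroup.card_mul_index ((A ⊓ cj x A).subgroupOf A)
  have h2 : Nat.card ((A ⊓ cj x A).subgroupOf A) = Nat.card (A ⊓ cj x A : Subgroup Q) :=
    Nat.card_congr (Subgroup.subgroupOfEquivOfLe inf_le_left).toEquiv
  rw [h2] at h1
  calc ((A ⊓ cj x A).subgroupOf A).index * μ ≤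
        ((A ⊓ cj x A).subgroupOf A).index * Nat.card (A ⊓ cj x A : Subgroup Q) := Nat.mul_le_mul_left _ (hmu x hx)
    _ = Nat.card A := by rw [mul_comm, h1]

/-- **S3499-IV-L U5(2)** -/
theorem index_le_U5 (hs : IsSimpleGroup Q) (h : EPT A Γ) (hN : N ≤ A) (hn : ∀ a ∈ A, ∀ n ∈ N, a * n * a⁻¹ ∈ N)
    {F : Type*} [Field F] [Fintype F] (hF : Fintype.card F = 4) (e : N ≃* Cfsg.PSU 5 F 2)
    (hC : ∀ a ∈ A, (∀ n ∈ N, a * n = n * a) → a = 1) : A.index ≤ 2 ^ 61 := by
  have hS : IsSimpleGroup (Cfsg.PSU 5 F 2) :=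
    Cfsg.Agent.S0283.result (F := F) (q := 2) (by rw [hF]; norm_num) 5 (by norm_num) (by norm_num)
  have hNs : IsSimpleGroup N := e.isSimpleGroup
  have hcN : Nat.card N = 13685760 := by rw [Nat.card_congr e.toEquiv, card_U5 hF]
  have hle : Nat.card A ≤ 2 * 13685760 := by
    refine (card_le_aut hN hn hC).trans ?_
    rw [Nat.card_congr (MulAut.congr e).toEquiv, card_aut_U5 hF]
  have hdvd : 13685760 ∣ Nat.card A := by
    rw [← hcN]
    exact Subgroup.card_dvd_of_le hN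
  have hcA : Nat.card A = 13685760 ∨ Nat.card A = 27371520 := by
    obtain ⟨k, hk⟩ := hdvd
    have h0 : 0 < Nat.card A := Nat.card_pos
    have h1 : k = 1 ∨ k = 2 := by
      have : k ≠ 0 := by
        rintro rfl
        omega
      omega
    rcases h1 with rfl | rfl
    · left; omega
    · right; omega
  have hNc : ¬ ∀ a ∈ N, ∀ b ∈ N, a * b = b * a := by
    intro hcomm
    have h1 : N = ⊥ := by
      rw [Subgroup.eq_bot_iff_forall]
      exact fun a ha => hC a (hN ha) fun n hn' => hcomm a ha n hn'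
    rw [h1, Subgroup.card_bot] at hcN
    omega
  have hab := noAb_of_soc hN hn hNs hNc hC
  have hnc : ∀ x, x ∉ A → ¬ ∀ a ∈ A ⊓ cj x A, ∀ b ∈ A ⊓ cj x A, a * b = b * a := by
    intro x hx hcomm
    obtain ⟨K, h1, h2, h3, h4⟩ := h.abM0 x hx hcomm
    exact h3 (hab K h1 (fun a ha k hk => h2 _ ((h.conj a).2 ha) k hk) h4)
  have h6 : ∀ x, x ∉ A → 6 ≤ Nat.card (A ⊓ cj x A : Subgroup Q) := fun x hx => EPT.six_le h hab hx
  have hrad : {K : Subgroup N | Radical 2 K}.ncard ≤ 13685760 * 2 ^ 5 := by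
    rw [← hcN]
    exact ncard_radical_U5 hF e
  have h7 : ¬ 7 ∣ Nat.card A := by
    rcases hcA with h | h <;> rw [h] <;> norm_num
  -- the count
  obtain ⟨a, ha, hcA'⟩ : ∃ a, (a = 10 ∨ a = 11) ∧ Nat.card A = 2 ^ a * 3 ^ 5 * 5 * 11 := by
    rcases hcA with h | h
    · exact ⟨10, Or.inl rfl, by rw [h]; norm_num⟩
    · exact ⟨11, Or.inr rfl, by rw [h]; norm_num⟩
  have hf3 : (Nat.card A).factorization 3 = 5 := by
    refine fac_eq (m := 2 ^ a * 5 * 11) Nat.prime_three (by rw [hcA']; ring) ?_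
    rcases ha with rfl | rfl <;> norm_num
  have h8 : ∀ x, x ∉ A → 8 ≤ Nat.card (A ⊓ cj x A : Subgroup Q) := fun x hx =>
    eight_le h hx (hnc x hx) (h6 x hx) hf3
  have main : ∀ μ : ℕ, 0 < μ → (∀ x, x ∉ A → μ ≤ Nat.card (A ⊓ cj x A : Subgroup Q)) →
      A.index ≤ 1 + (2665 * (Nat.card A / μ) + 13685760 * 2 ^ 5 + Nat.card A + 13685760 ^ 2 / 360) *
        (2 * (Nat.card A / μ)) := by
    intro μ hμ hmu
    have h1 := ncard_M_le h hN hn hNs hC (by rw [hcN]; exact hle) (sq_ndvd hcA' ha) (index_le_c hμ hmu) hrad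
      (gen_data h7)
    rw [hcN] at h1
    have h2 := Cfsg.Agent.H173.EP.ub1 hs h hμ hmu
    refine h2.trans (Nat.add_le_add_left (Nat.mul_le_mul_right _ (h1.trans ?_)) 1)
    have h3 := Nat.mul_le_mul_right (Nat.card A / μ) (sum_gal hcA' ha)
    omega
  rcases hcA with hc | hc
  · refine (main 8 (by norm_num) h8).trans ?_
    rw [hc]
    norm_num
  · have h13 : ∀ x, x ∉ A → 13 ≤ Nat.card (A ⊓ cj x A : Subgroup Q) := by
      intro x hx
      refine thirteen_le h hx (hnc x hx) (h8 x hx) ?_ hf3 ?_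
      · have h1 : (Nat.card A).factorization 2 = 11 :=
          fac_eq (m := 3 ^ 5 * 5 * 11) Nat.prime_two (by rw [hc]; norm_num) (by norm_num)
        omega
      · intro n h1 h2
        rw [hc] at h1
        have h3 : n = 2737152 := by omega
        subst h3
        exact absurd h2 (by decide)
    refine (main 13 (by norm_num) h13).trans ?_
    rw [hc]
    norm_num

end Cfsg.Agent.H896.EP
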