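import Cfsg.Agent.H684.FiltClass
import Cfsg.Agent.KFacts.RgdLieCharP

/-!
# S3499-IV-L U5(2) (helper896), part 2: the radical `p`-subgroups

`K ≠ 1` a `p`-subgroup which contains all `p`-subgroups `≤ N(K)` normalised by `N(K)`: by Borel–Tits `K` is one of the
`g V_J g⁻¹`, so there are at most `2 ^ l |G|` of them.
-/

set_option autoImplicit false

namespace Cfsg.Agent.H896.EP

open Subgroup
open Cfsg.Agent.ChevalleyStructure.CoxeterGeom Cfsg.Agent.Tits.Roots Cfsg.Agent.Nodes.LeviDec CoxeterSystem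
  Cfsg.Agent.Nodes.Reps Cfsg.Agent.Nodes.NormX Cfsg.Agent.KFacts.RgdCharP Cfsg.Agent.Nodes.BNOf
  Cfsg.Agent.KFacts.RgdFilt Cfsg.Agent.KFacts.RgdBorelTits Cfsg.Agent.KFacts.RgdLieCharP
  Cfsg.Agent.H684.FiltClass

/-- radical `p`-subgroups -/
structure Radical (p : ℕ) {G : Type*} [Group G] (K : Subgroup G) : Prop where
  pg : IsPGroup p K
  ne : K ≠ ⊥
  rad : ∀ R : Subgroup G, IsPGroup p R → R ≤ normalizer (K : Set G) →
    (∀ g ∈ normalizer (K : Set G), ∀ r ∈ R, g * r * g⁻¹ ∈ R) → R ≤ K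

theorem radical_eq {p : ℕ} [Fact p.Prime] {G : Type*} [Group G] [Finite G] {K V : Subgroup G} (hK : Radical p K)
    (hV : IsPGroup p V) (hKV : K ≤ V) (hn : normalizer (K : Set G) ≤ normalizer (V : Set G)) : K = V := by
  by_contra hne
  have h1 : K.subgroupOf V < ⊤ := by
    rw [lt_top_iff_ne_top]
    intro e
    rw [Subgroup.subgroupOf_eq_top] at e
    exact hne (le_antisymm hKV e)
  have hnil : Group.IsNilpotent V := hV.isNilpotent
  have h2 := Group.normalizerCondition_of_isNilpotent (G := V) _ h1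
  obtain ⟨y, hy, hyn⟩ := SetLike.exists_of_lt h2
  apply hyn
  have h3 : V ⊓ normalizer (K : Set G) ≤ K := by
    apply hK.rad
    · exact hV.to_le inf_le_left
    · exact inf_le_right
    · intro g hg r hr
      have hr' := mem_inf.1 hr
      exact mem_inf.2 ⟨(mem_normalizer_iff.1 (hn hg) r).1 hr'.1, mul_mem (mul_mem hg hr'.2) (inv_mem hg)⟩
  apply h3
  refine mem_inf.2 ⟨y.2, ?_⟩
  rw [mem_normalizer_iff]
  intro k
  have h4 := mem_normalizer_iff.1 hy
  constructor
  · intro hk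
    exact (h4 ⟨k, hKV hk⟩).1 hk
  · intro hk
    have hkV : k ∈ V := by
      have h5 := mul_mem (mul_mem (inv_mem y.2) (hKV hk)) y.2
      have e : (y : G)⁻¹ * (V.subtype y * k * (V.subtype y)⁻¹) * y = k := by
        show (y : G)⁻¹ * (y * k * (y : G)⁻¹) * y = k
        group
      rwa [e] at h5
    exact (h4 ⟨k, hkV⟩).2 hk

theorem ncard_radical {p l : ℕ} [Fact p.Prime] {M : CoxeterMatrix (Fin l)} {G : Type*} [Group G] [Finite G]
    (hG : FiltD p M G) : {K : Subgroup G | Radical p K}.ncard ≤ Nat.card G * 2 ^ l := by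
  classical
  obtain ⟨A, h, T, n, X, R, F, hW, hX, hF⟩ := hG
  have hsub : {K : Subgroup G | Radical p K} ⊆
      Set.range fun gJ : G × Set (Fin l) => cj gJ.1 (VJ M.toCoxeterSystem h X gJ.2) := by
    intro K hK
    obtain ⟨g, J, _, h1, h2⟩ := borel_tits_of_filt hF hX hK.pg hK.ne
    refine ⟨(g, J), ?_⟩
    symm
    refine radical_eq hK ?_ h1 (h2.trans ?_)
    · unfold cj
      exact (isPGroup_VJ R J).map _
    · rw [normalizer_cj]
      exact cj_mono g (PJ_le_normalizer_VJ R J)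
  refine (Set.ncard_le_ncard hsub (Set.toFinite _)).trans ?_
  rw [← Nat.card_coe_set_eq]
  refine (Nat.card_le_card_of_surjective _ Set.rangeFactorization_surjective).trans ?_
  rw [Nat.card_prod]
  apply Nat.mul_le_mul_left
  rw [Nat.card_eq_fintype_card, Fintype.card_set, Fintype.card_fin]

/-- the radical `2`-subgroups of `U5(2)` -/
theorem ncard_radical_U5 {F : Type*} [Field F] [Fintype F] (hF : Fintype.card F = 4) {N : Type*} [Group N] [Finite N]
    (e : N ≃* Cfsg.PSU 5 F 2) : {K : Subgroup N | Radical 2 K}.ncard ≤ Nat.card N * 2 ^ 5 := by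
  have : Fact (Nat.Prime 2) := ⟨Nat.prime_two⟩
  have : CharP F 2 := by
    obtain ⟨p, hp⟩ := CharP.exists F
    have := hp
    obtain ⟨n, hpp, hn⟩ := FiniteField.card F p
    rw [hF] at hn
    have h1 : p ∣ 4 := by
      rw [hn]
      exact dvd_pow_self p n.2.ne'
    have h2 : p ∣ 2 := by
      rw [show (4 : ℕ) = 2 ^ 2 by norm_num] at h1
      exact hpp.dvd_of_dvd_pow h1
    rw [(Nat.prime_dvd_prime_iff_eq hpp Nat.prime_two).1 h2] at hp
    exact hp
  obtain ⟨m, hm, hD⟩ := filtD_PSU (F := F) (q := 2) (N := 5) (by rw [hF]; norm_num) (by norm_num) (p := 2)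
  have h1 := ncard_radical (hD.of_equiv e.symm)
  refine h1.trans (Nat.mul_le_mul_left _ ?_)
  exact Nat.pow_le_pow_right (by norm_num) hm

end Cfsg.Agent.H896.EP
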