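import Cfsg.Agent.Involutions.IndexFive

/-!
# S3499-IV-L U5(2) (helper896), part 3: generating pairs of small simple groups

A 2-generated nonabelian simple group `X` with `|X| = 60` or `|X| ≥ 360` has at least 360 generating pairs.
-/

set_option autoImplicit false

namespace Cfsg.Agent.H896.EP

open Subgroup

variable {X : Type*} [Group X] [Finite X]

/-- a generating pair of a group with trivial centre gives `|X|` generating pairs -/
theorem card_le_pairs (hz : center X = ⊥) {a b : X} (hab : closure ({a, b} : Set X) = ⊤) :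
    Nat.card X ≤ {p : X × X | closure ({p.1, p.2} : Set X) = ⊤}.ncard := by
  have hinj : Function.Injective (fun g : X => (g * a * g⁻¹, g * b * g⁻¹)) := by
    intro g k e
    simp only [Prod.mk.injEq] at e
    have hle : (⊤ : Subgroup X) ≤ centralizer {k⁻¹ * g} := by
      rw [← hab, closure_le]
      rintro x (hx | hx)
      · rw [hx, SetLike.mem_coe, mem_centralizer_singleton_iff]
        have h2 := e.1
        rw [mul_inv_eq_iff_eq_mul] at h2
        have h3 : k⁻¹ * (g * a) = a * k⁻¹ * g := by rw [h2]; group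
        rw [mul_assoc k⁻¹ g, h3, mul_assoc]
      · rw [Set.mem_singleton_iff.1 hx, SetLike.mem_coe, mem_centralizer_singleton_iff]
        have h2 := e.2
        rw [mul_inv_eq_iff_eq_mul] at h2
        have h3 : k⁻¹ * (g * b) = b * k⁻¹ * g := by rw [h2]; group
        rw [mul_assoc k⁻¹ g, h3, mul_assoc]
    have hc : k⁻¹ * g ∈ center X := by
      rw [mem_center_iff]
      intro x
      exact mem_centralizer_singleton_iff.1 (hle (mem_top x))
    rw [hz, mem_bot, inv_mul_eq_one] at hc
    exact hc.symm
  have h1 : Nat.card X = (Set.range fun g : X => (g * a * g⁻¹, g * b * g⁻¹)).ncard := by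
    rw [← Set.image_univ, Set.ncard_image_of_injective _ hinj, Set.ncard_univ]
  rw [h1]
  refine Set.ncard_le_ncard ?_ (Set.toFinite _)
  rintro _ ⟨g, rfl⟩
  show closure ({g * a * g⁻¹, g * b * g⁻¹} : Set X) = ⊤
  have h2 : ({g * a * g⁻¹, g * b * g⁻¹} : Set X) = (MulAut.conj g).toMonoidHom '' {a, b} := by
    rw [Set.image_pair]
    rfl
  rw [h2, ← MonoidHom.map_closure, hab]
  exact Subgroup.map_top_of_surjective _ (MulAut.conj g).surjective

theorem five_le_index [IsSimpleGroup X] (h : Nat.card X = 60) {H : Subgroup X} (hH : H ≠ ⊤) :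
    Nat.card H ≤ 12 := by
  have h1 := Cfsg.Agent.Involutions.IndexFive.card_dvd_factorial_index H hH
  have h2 := H.card_mul_index
  rw [h] at h1 h2
  have h3 : 5 ≤ H.index := by
    by_contra hcon
    push Not at hcon
    have h4 : H.index ≠ 0 := Subgroup.index_ne_zero_of_finite
    have h5 := Nat.le_of_dvd (Nat.factorial_pos _) h1
    have h6 : H.index.factorial ≤ Nat.factorial 4 := Nat.factorial_le (by omega)
    have h7 : Nat.factorial 4 = 24 := rfl
    omega
  by_contra hcon
  push Not at hcon
  have : 13 * 5 ≤ Nat.card H * H.index := Nat.mul_le_mul hcon h3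
  omega

/-- 60 : more than 360 generating pairs -/
theorem pairs_sixty [IsSimpleGroup X] (h : Nat.card X = 60) :
    360 ≤ {p : X × X | closure ({p.1, p.2} : Set X) = ⊤}.ncard := by
  classical
  have : Fact (Nat.Prime 5) := ⟨Nat.prime_five⟩
  obtain ⟨a, ha⟩ := exists_prime_orderOf_dvd_card' (G := X) 5 (by rw [h]; norm_num)
  set Z : Subgroup X := zpowers a with hZ
  have hcZ : Nat.card Z = 5 := by rw [hZ, Nat.card_zpowers, ha]
  set N : Subgroup X := normalizer (Z : Set X) with hN
  have hNt : N ≠ ⊤ := by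
    intro e
    have hn : Z.Normal := Subgroup.normalizer_eq_top_iff.1 e
    rcases hn.eq_bot_or_eq_top with h1 | h1
    · rw [h1, Subgroup.card_bot] at hcZ
      norm_num at hcZ
    · rw [h1, Subgroup.card_top, h] at hcZ
      norm_num at hcZ
  have hNc := five_le_index h hNt
  -- generation
  have hgen : ∀ x ∈ Z, x ≠ 1 → ∀ y, y ∉ N → closure ({x, y} : Set X) = ⊤ := by
    intro x hx hx1 y hy
    by_contra hcon
    have hH := five_le_index h hcon
    set H : Subgroup X := closure ({x, y} : Set X) with hHd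
    have hxH : x ∈ H := subset_closure (by simp)
    have hyH : y ∈ H := subset_closure (by simp)
    have hzx : zpowers x = Z := by
      apply Subgroup.eq_of_le_of_card_ge
      · rw [zpowers_le]
        exact hx
      · have h2 : Nat.card (zpowers x) ∣ Nat.card Z := Subgroup.card_dvd_of_le (by
          rw [zpowers_le]; exact hx)
        rw [hcZ, Nat.dvd_prime Nat.prime_five] at h2
        rw [hcZ]
        rcases h2 with h2 | h2
        · exfalso
          apply hx1
          rw [Nat.card_zpowers, orderOf_eq_one_iff] at h2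
          exact h2
        · exact h2.ge
    have hZH : Z ≤ H := by
      rw [← hzx, zpowers_le]
      exact hxH
    have hcs : Nat.card (Z.subgroupOf H) = 5 := by
      rw [← hcZ]
      exact Nat.card_congr (Subgroup.subgroupOfEquivOfLe hZH).toEquiv
    have h1 := (Z.subgroupOf H).card_mul_index
    rw [hcs] at h1
    have h2 : (Z.subgroupOf H).index ≤ 2 := by omega
    have h3 : (Z.subgroupOf H).index ≠ 0 := Subgroup.index_ne_zero_of_finite
    have hn : (Z.subgroupOf H).Normal := by
      have h4 : (Z.subgroupOf H).index = 1 ∨ (Z.subgroupOf H).index = 2 := by omega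
      rcases h4 with h4 | h4
      · rw [Subgroup.index_eq_one] at h4
        rw [h4]
        infer_instance
      · exact Subgroup.normal_of_index_eq_two h4
    apply hy
    rw [hN, mem_normalizer_iff]
    have key : ∀ y ∈ H, ∀ z ∈ Z, y * z * y⁻¹ ∈ Z := fun y hy z hz =>
      hn.conj_mem (⟨z, hZH hz⟩ : H) hz ⟨y, hy⟩
    intro z
    refine ⟨key y hyH z, fun hz => ?_⟩
    have h5 := key y⁻¹ (H.inv_mem hyH) _ hz
    have e : y⁻¹ * (y * z * y⁻¹) * y⁻¹⁻¹ = z := by group
    rwa [e] at h5
  have hZN : Z ≤ N := Subgroup.le_normalizer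
  set S : Set X := (Z : Set X) \ {1} with hS
  set T : Set X := ((N : Set X))ᶜ with hT
  have hSc : S.ncard = 4 := by
    rw [hS, Set.ncard_sdiff_singleton_of_mem (by exact Z.one_mem)]
    have : (Z : Set X).ncard = 5 := hcZ
    rw [this]
  have hTc : 48 ≤ T.ncard := by
    have h1 : Nat.card N + T.ncard = Nat.card X :=
      Set.ncard_add_ncard_compl (N : Set X) (Set.toFinite _) (Set.toFinite _)
    rw [h] at h1
    omega
  have hdis : Disjoint (S ×ˢ T) (T ×ˢ S) := by
    rw [Set.disjoint_left]
    rintro ⟨x, y⟩ h1 h2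
    exact h2.1 (hZN h1.1.1)
  have hsub : (S ×ˢ T) ∪ (T ×ˢ S) ⊆ {p : X × X | closure ({p.1, p.2} : Set X) = ⊤} := by
    rintro ⟨x, y⟩ (h1 | h1)
    · exact hgen x h1.1.1 h1.1.2 y h1.2
    · show closure ({x, y} : Set X) = ⊤
      rw [Set.pair_comm]
      exact hgen y h1.2.1 h1.2.2 x h1.1
  refine le_trans ?_ (Set.ncard_le_ncard hsub (Set.toFinite _))
  rw [Set.ncard_union_eq hdis (Set.toFinite _) (Set.toFinite _), Set.ncard_prod, Set.ncard_prod, hSc]
  omega

omit [Finite X] in
theorem center_bot [IsSimpleGroup X] (hns : ¬ Group.IsSolvable X) : center X = ⊥ := by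
  rcases (inferInstance : (center X).Normal).eq_bot_or_eq_top with h2 | h2
  · exact h2
  · exfalso
    apply hns
    apply Group.isSolvable_of_comm
    intro x y
    have : y ∈ center X := by rw [h2]; exact mem_top _
    exact mem_center_iff.1 this x

/-- **generating pairs** -/
theorem pairs_le [IsSimpleGroup X] (hns : ¬ Group.IsSolvable X) (hg : ∃ a b : X, closure ({a, b} : Set X) = ⊤)
    (ho : Nat.card X < 360 → Nat.card X = 60) : 360 ≤ {p : X × X | closure ({p.1, p.2} : Set X) = ⊤}.ncard := by
  by_cases hlt : 360 ≤ Nat.card X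
  · obtain ⟨a, b, hab⟩ := hg
    exact hlt.trans (card_le_pairs (center_bot hns) hab)
  · exact pairs_sixty (ho (by omega))

/-- **the number of simple subgroups** -/
theorem ncard_simple_le {B : Type*} [Group B] [Finite B] {N : Subgroup B} {𝒮 : Set (Subgroup B)}
    (hs : ∀ X ∈ 𝒮, IsSimpleGroup X ∧ ¬ Group.IsSolvable X) (hN : ∀ X ∈ 𝒮, X ≤ N)
    (hg : ∀ X ∈ 𝒮, (∃ a b : X, closure ({a, b} : Set X) = ⊤) ∧ (Nat.card X < 360 → Nat.card X = 60)) :
    𝒮.ncard * 360 ≤ Nat.card N ^ 2 := by
  classical
  have hfin : 𝒮.Finite := Set.toFinite _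
  let G : Subgroup B → Set (B × B) := fun X => {p | closure ({p.1, p.2} : Set B) = X}
  have hG : ∀ X ∈ 𝒮, 360 ≤ (G X).ncard := by
    intro X hX
    obtain ⟨hXs, hXn⟩ := hs X hX
    have h1 := pairs_le hXn (hg X hX).1 (hg X hX).2
    refine h1.trans ?_
    refine Set.ncard_le_ncard_of_injOn (fun p => ((p.1 : B), (p.2 : B))) ?_ ?_ (Set.toFinite _)
    · intro p hp
      show closure ({(p.1 : B), (p.2 : B)} : Set B) = X
      have h1 := congrArg (Subgroup.map X.subtype) (show closure ({p.1, p.2} : Set X) = ⊤ from hp)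
      rw [MonoidHom.map_closure, Set.image_pair, ← MonoidHom.range_eq_map, X.range_subtype] at h1
      exact h1
    · rintro ⟨a, b⟩ _ ⟨c, d⟩ _ e
      simp only [Prod.mk.injEq] at e
      rw [Prod.mk.injEq]
      exact ⟨Subtype.ext e.1, Subtype.ext e.2⟩
  have hdis : (hfin.toFinset : Set (Subgroup B)).PairwiseDisjoint fun X => (Set.toFinite (G X)).toFinset := by
    intro X _ Y _ hne
    rw [Function.onFun, Finset.disjoint_left]
    intro p hp hq
    rw [Set.Finite.mem_toFinset] at hp hq
    exact hne (hp.symm.trans hq)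
  have h1 : (hfin.toFinset.biUnion fun X => (Set.toFinite (G X)).toFinset).card ≤ ((N : Set B) ×ˢ (N : Set B)).ncard := by
    have hsub : ((hfin.toFinset.biUnion fun X => (Set.toFinite (G X)).toFinset : Finset (B × B)) : Set (B × B)) ⊆
        (N : Set B) ×ˢ (N : Set B) := by
      rintro ⟨x, y⟩ hp
      rw [Finset.mem_coe, Finset.mem_biUnion] at hp
      obtain ⟨X, hX, hp⟩ := hp
      rw [Set.Finite.mem_toFinset] at hp hX
      have hp' : closure ({x, y} : Set B) = X := hp
      have hx : x ∈ X := hp' ▸ subset_closure (by simp)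
      have hy : y ∈ X := hp' ▸ subset_closure (by simp)
      exact ⟨hN X hX hx, hN X hX hy⟩
    have := Set.ncard_le_ncard hsub (Set.toFinite _)
    rwa [Set.ncard_coe_finset] at this
  have hNc : (N : Set B).ncard = Nat.card N := rfl
  rw [Finset.card_biUnion hdis, Set.ncard_prod, hNc, ← pow_two] at h1
  refine le_trans ?_ h1
  rw [Set.ncard_eq_toFinset_card _ hfin, ← smul_eq_mul]
  apply Finset.card_nsmul_le_sum
  intro X hX
  rw [← Set.ncard_eq_toFinset_card _ (Set.toFinite _)]
  exact hG X (hfin.mem_toFinset.1 hX)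

end Cfsg.Agent.H896.EP
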