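import Cfsg.Agent.H284.EP.TForm

/-!
# S3499-IV-L U5(2) (helper896), part 1: small orders of `A ∩ A^x`

* `sylow_fac` : a normal Sylow `r`-subgroup `≠ 1` of `A ∩ A^x` is a Sylow subgroup of `A`;
* `order_twelve` : a group of order 12 has a normal Sylow subgroup;
* `eight_le`, `thirteen_le` : `8 ≤ |A ∩ A^x|`, `13 ≤ |A ∩ A^x|`.
-/

set_option autoImplicit false

namespace Cfsg.Agent.H896.EP

open Subgroup Cfsg.Agent.H284

/-! ### Sylow subgroups of groups of order 6, 10, 12 -/

theorem normal_of_card_eq_one {M : Type*} [Group M] [Finite M] {r : ℕ} [Fact r.Prime] (h : Nat.card (Sylow r M) = 1)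
    (P : Sylow r M) : (P : Subgroup M).Normal := by
  have h1 := Sylow.card_eq_index_normalizer P
  rw [h, eq_comm, Subgroup.index_eq_one] at h1
  exact Subgroup.normalizer_eq_top_iff.1 h1

theorem card_sylow {M : Type*} [Group M] [Finite M] {r m : ℕ} [hr : Fact r.Prime] (hc : Nat.card M = r * m)
    (hm : ¬ r ∣ m) (P : Sylow r M) : Nat.card P = r := by
  have h0 : m ≠ 0 := by
    rintro rfl
    exact hm (dvd_zero r)
  have h1 := P.card_eq_multiplicity
  rw [hc, Nat.factorization_mul hr.out.ne_zero h0, Finsupp.add_apply, hr.out.factorization_self,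
    Nat.factorization_eq_zero_of_not_dvd hm, add_zero, pow_one] at h1
  exact h1

theorem card_sylow_dvd {M : Type*} [Group M] [Finite M] {r m : ℕ} [hr : Fact r.Prime] (hc : Nat.card M = r * m)
    (hm : ¬ r ∣ m) : Nat.card (Sylow r M) ∣ m := by
  have P : Sylow r M := default
  have h1 := card_sylow hc hm P
  have h2 := (P : Subgroup M).card_mul_index
  rw [hc, h1] at h2
  have h3 := Nat.eq_of_mul_eq_mul_left hr.out.pos h2
  rw [← h3]
  exact Sylow.card_dvd_index P

theorem normal_six {M : Type*} [Group M] [Finite M] (h : Nat.card M = 6) [Fact (Nat.Prime 3)] (P : Sylow 3 M) :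
    (P : Subgroup M).Normal := by
  apply normal_of_card_eq_one
  have h1 := card_sylow_dvd (r := 3) (m := 2) (M := M) h (by norm_num)
  have h2 := card_sylow_modEq_one 3 M
  have h3 := Nat.le_of_dvd (by norm_num) h1
  unfold Nat.ModEq at h2
  omega

theorem normal_ten {M : Type*} [Group M] [Finite M] (h : Nat.card M = 10) [Fact (Nat.Prime 5)] (P : Sylow 5 M) :
    (P : Subgroup M).Normal := by
  apply normal_of_card_eq_one
  have h1 := card_sylow_dvd (r := 5) (m := 2) (M := M) h (by norm_num)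
  have h2 := card_sylow_modEq_one 5 M
  have h3 := Nat.le_of_dvd (by norm_num) h1
  unfold Nat.ModEq at h2
  omega

/-- the number of elements of order `3` in a group with four Sylow subgroups of order `3` -/
theorem eight_le_ncard {M : Type*} [Group M] [Finite M] [Fact (Nat.Prime 3)] (h : Nat.card (Sylow 3 M) = 4)
    (hP : ∀ P : Sylow 3 M, Nat.card P = 3) : 8 ≤ {y : M | y ≠ 1 ∧ y ^ 3 = 1}.ncard := by
  classical
  have := Fintype.ofFinite M
  have := Fintype.ofFinite (Sylow 3 M)
  let E : Sylow 3 M → Finset M := fun P => Finset.univ.filter fun y => y ∈ P ∧ y ≠ 1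
  have hE : ∀ P, (E P).card = 2 := by
    intro P
    have h1 : (Finset.univ.filter fun y : M => y ∈ P).card = 3 := by
      refine Eq.trans ?_ (hP P)
      rw [Nat.card_eq_fintype_card, Fintype.card_subtype]
      rfl
    have h2 : Finset.univ.filter (fun y : M => y ∈ P) = insert 1 (E P) := by
      ext y
      simp only [E, Finset.mem_filter, Finset.mem_univ, true_and, Finset.mem_insert]
      constructor
      · intro hy
        by_cases h : y = 1
        · exact Or.inl h
        · exact Or.inr ⟨hy, h⟩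
      · rintro (rfl | hy)
        · exact one_mem _
        · exact hy.1
    have h3 : (1 : M) ∉ E P := by
      simp [E]
    rw [h2, Finset.card_insert_of_notMem h3] at h1
    omega
  have hdis : ((Finset.univ : Finset (Sylow 3 M)) : Set (Sylow 3 M)).PairwiseDisjoint E := by
    intro P _ Q _ hne
    rw [Function.onFun, Finset.disjoint_left]
    intro y hy hy'
    simp only [E, Finset.mem_filter, Finset.mem_univ, true_and] at hy hy'
    apply hne
    have key : ∀ R : Sylow 3 M, y ∈ R → (R : Subgroup M) = zpowers y := by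
      intro R hR
      symm
      apply Subgroup.eq_of_le_of_card_ge
      · rw [zpowers_le]
        exact hR
      · have h1 : (Nat.card (R : Subgroup M)) = 3 := hP R
        have h2 : Nat.card (zpowers y) ∣ Nat.card (R : Subgroup M) := Subgroup.card_dvd_of_le (by
          rw [zpowers_le]; exact hR)
        rw [h1, Nat.dvd_prime Nat.prime_three] at h2
        rw [h1]
        rcases h2 with h2 | h2
        · exfalso
          apply hy.2
          rw [Nat.card_zpowers, orderOf_eq_one_iff] at h2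
          exact h2
        · exact h2.ge
    apply Sylow.ext
    rw [key P hy.1, key Q hy'.1]
  have h1 : (Finset.univ.biUnion E).card = 8 := by
    rw [Finset.card_biUnion hdis, Finset.sum_congr rfl fun P _ => hE P, Finset.sum_const, Finset.card_univ,
      ← Nat.card_eq_fintype_card, h]
    rfl
  rw [← h1, ← Set.ncard_coe_finset]
  refine Set.ncard_le_ncard ?_ (Set.toFinite _)
  intro y hy
  rw [Finset.mem_coe, Finset.mem_biUnion] at hy
  obtain ⟨P, _, hy⟩ := hy
  simp only [E, Finset.mem_filter, Finset.mem_univ, true_and] at hy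
  refine ⟨hy.2, ?_⟩
  have h2 := pow_card_eq_one' (G := (P : Subgroup M)) (x := ⟨y, hy.1⟩)
  have h3 : Nat.card (P : Subgroup M) = 3 := hP P
  rw [h3] at h2
  exact Subtype.ext_iff.1 h2

theorem order_twelve {M : Type*} [Group M] [Finite M] (h : Nat.card M = 12) [Fact (Nat.Prime 3)] [Fact (Nat.Prime 2)] :
    (∀ P : Sylow 3 M, (P : Subgroup M).Normal) ∨ (∀ P : Sylow 2 M, (P : Subgroup M).Normal ∧ Nat.card P = 4) := by
  by_cases h1 : Nat.card (Sylow 3 M) = 1
  · exact Or.inl (normal_of_card_eq_one h1)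
  right
  have hd := card_sylow_dvd (r := 3) (m := 4) (M := M) h (by norm_num)
  have hm := card_sylow_modEq_one 3 M
  have hle := Nat.le_of_dvd (by norm_num) hd
  unfold Nat.ModEq at hm
  have h4 : Nat.card (Sylow 3 M) = 4 := by omega
  have h8 := eight_le_ncard h4 (card_sylow (r := 3) (m := 4) (M := M) h (by norm_num))
  intro P
  have hP : Nat.card P = 4 := by
    have h2 := P.card_eq_multiplicity
    have h3 : (Nat.card M).factorization 2 = 2 := by
      rw [h, show (12 : ℕ) = 2 ^ 2 * 3 by norm_num, Nat.factorization_mul (by norm_num) (by norm_num),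
        Finsupp.add_apply, Nat.prime_two.factorization_pow, Finsupp.single_eq_same,
        Nat.factorization_eq_zero_of_not_dvd (by norm_num)]
    rw [h2, h3]
    norm_num
  refine ⟨?_, hP⟩
  have hsub : ((P : Subgroup M) : Set M) ⊆ {y : M | y ≠ 1 ∧ y ^ 3 = 1}ᶜ := by
    rintro y hy ⟨h5, h6⟩
    apply h5
    have h7 : y ^ 4 = 1 := by
      have h8 := pow_card_eq_one' (G := (P : Subgroup M)) (x := ⟨y, hy⟩)
      have h9 : Nat.card (P : Subgroup M) = 4 := hP
      rw [h9] at h8
      exact Subtype.ext_iff.1 h8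
    rw [pow_succ, h6, one_mul] at h7
    exact h7
  have hcard : ({y : M | y ≠ 1 ∧ y ^ 3 = 1}ᶜ : Set M).ncard ≤ ((P : Subgroup M) : Set M).ncard := by
    have h5 := Set.ncard_add_ncard_compl {y : M | y ≠ 1 ∧ y ^ 3 = 1} (Set.toFinite _) (Set.toFinite _)
    have h6 : ((P : Subgroup M) : Set M).ncard = 4 := hP
    rw [h6]
    rw [h] at h5
    omega
  have heq := Set.eq_of_subset_of_ncard_le hsub hcard (Set.toFinite _)
  constructor
  intro y hy g
  have h5 : y ∈ ((P : Subgroup M) : Set M) := hy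
  rw [heq] at h5
  have h6 : g * y * g⁻¹ ∈ ((P : Subgroup M) : Set M) := by
    rw [heq]
    rintro ⟨h7, h8⟩
    apply h5
    refine ⟨?_, ?_⟩
    · rintro rfl
      apply h7
      group
    · rw [conj_pow] at h8
      have h9 : y ^ 3 = g⁻¹ * (g * y ^ 3 * g⁻¹) * g := by group
      rw [h9, h8]
      group
  exact h6

/-! ### normal Sylow subgroups of `A ∩ A^x` -/

variable {Q : Type*} [Group Q] [Finite Q] {A : Subgroup Q} {Γ : Subgroup (MulAut Q)}

/-- the elements of a normal Sylow subgroup of `M` -/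
theorem mem_normal_sylow {M : Subgroup Q} {r : ℕ} [Fact r.Prime] (P : Sylow r M) (hP : (P : Subgroup M).Normal) (y : Q) :
    y ∈ (P : Subgroup M).map M.subtype ↔ y ∈ M ∧ ∃ k : ℕ, y ^ (r ^ k) = 1 := by
  constructor
  · rintro ⟨z, hz, rfl⟩
    refine ⟨z.2, ?_⟩
    obtain ⟨k, hk⟩ := P.2 ⟨z, hz⟩
    exact ⟨k, Subtype.ext_iff.1 (Subtype.ext_iff.1 hk)⟩
  · rintro ⟨hy, k, hk⟩
    have h1 : IsPGroup r (zpowers (⟨y, hy⟩ : M)) := by
      rw [IsPGroup.iff_card]
      have h2 : orderOf (⟨y, hy⟩ : M) ∣ r ^ k := by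
        apply orderOf_dvd_of_pow_eq_one
        exact Subtype.ext hk
      obtain ⟨j, _, hj⟩ := (Nat.dvd_prime_pow (Fact.out : r.Prime)).1 h2
      exact ⟨j, by rw [Nat.card_zpowers, hj]⟩
    obtain ⟨R, hR⟩ := h1.exists_le_sylow
    have h2 : R = P := by
      obtain ⟨g, hg⟩ := MulAction.exists_smul_eq M P R
      rw [← hg]
      exact Sylow.smul_eq_of_normal
    rw [h2] at hR
    exact ⟨⟨y, hy⟩, hR (mem_zpowers _), rfl⟩

theorem sylow_fac (h : EPT A Γ) {x : Q} (hx : x ∉ A) {M : Subgroup Q} (hM : M = A ⊓ cj x A) {r : ℕ}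
    [hr : Fact r.Prime] (P : Sylow r M) (hP : (P : Subgroup M).Normal) (hd : r ∣ Nat.card M) :
    Nat.card P = r ^ (Nat.card A).factorization r := by
  set R : Subgroup Q := (P : Subgroup M).map M.subtype with hR
  have hRM : R ≤ M := by
    rintro _ ⟨z, _, rfl⟩
    exact z.2
  have hRA : R ≤ A := hRM.trans (hM ▸ inf_le_left)
  have hcR : Nat.card R = Nat.card P :=
    (Nat.card_congr ((P : Subgroup M).equivMapOfInjective _ M.subtype_injective).toEquiv).symm
  have hRp : IsPGroup r R := P.2.map _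
  have hne : R ≠ ⊥ := by
    intro e
    rw [e, Subgroup.card_bot] at hcR
    have h1 := P.card_eq_multiplicity
    rw [← hcR] at h1
    have h2 : (Nat.card M).factorization r ≠ 0 := by
      have := (hr.out.dvd_iff_one_le_factorization Nat.card_pos.ne').1 hd
      omega
    exact absurd h1.symm (Nat.one_lt_pow h2 hr.out.one_lt).ne'
  -- a Sylow subgroup of `A`
  have h1 : IsPGroup r (R.subgroupOf A) := hRp.comap_subtype
  obtain ⟨S, hS⟩ := h1.exists_le_sylow
  have hSA : (S : Subgroup A).map A.subtype ≤ A := by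
    rintro _ ⟨z, _, rfl⟩
    exact z.2
  have hRS : R ≤ (S : Subgroup A).map A.subtype := by
    intro y hy
    exact ⟨⟨y, hRA hy⟩, hS hy, rfl⟩
  have h2 := h.sylow hx hr.out (by rw [← hM]; exact mem_normal_sylow P hP) hne hSA (S.2.map _) hRS
  have h3 : Nat.card ((S : Subgroup A).map A.subtype) = Nat.card S :=
    (Nat.card_congr ((S : Subgroup A).equivMapOfInjective _ A.subtype_injective).toEquiv).symm
  rw [← hcR, ← h2, h3]
  exact S.card_eq_multiplicity

/-- the number of Sylow `r`-subgroups of `A` if `A ∩ A^x` has a normal Sylow `r`-subgroup `≠ 1` -/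
theorem sylow_count (h : EPT A Γ) {x : Q} (hx : x ∉ A) {M : Subgroup Q} (hM : M = A ⊓ cj x A) {r : ℕ}
    [hr : Fact r.Prime] (P : Sylow r M) (hP : (P : Subgroup M).Normal) (hd : r ∣ Nat.card M) :
    ∃ n : ℕ, n ≡ 1 [MOD r] ∧ Nat.card A = n * Nat.card M := by
  set R : Subgroup Q := (P : Subgroup M).map M.subtype with hR
  have hRM : R ≤ M := by
    rintro _ ⟨z, _, rfl⟩
    exact z.2
  have hMA : M ≤ A := hM ▸ inf_le_left
  have hRA : R ≤ A := hRM.trans hMA
  have hcR : Nat.card R = Nat.card P :=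
    (Nat.card_congr ((P : Subgroup M).equivMapOfInjective _ M.subtype_injective).toEquiv).symm
  have hRp : IsPGroup r R := P.2.map _
  have hne : R ≠ ⊥ := by
    intro e
    rw [e, Subgroup.card_bot] at hcR
    have h1 := P.card_eq_multiplicity
    rw [← hcR] at h1
    have h2 : (Nat.card M).factorization r ≠ 0 := by
      have := (hr.out.dvd_iff_one_le_factorization Nat.card_pos.ne').1 hd
      omega
    exact absurd h1.symm (Nat.one_lt_pow h2 hr.out.one_lt).ne'
  have hmem := mem_normal_sylow P hP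
  have h1 : IsPGroup r (R.subgroupOf A) := hRp.comap_subtype
  obtain ⟨S, hS⟩ := h1.exists_le_sylow
  have hSA : (S : Subgroup A).map A.subtype ≤ A := by
    rintro _ ⟨z, _, rfl⟩
    exact z.2
  have hRS : R ≤ (S : Subgroup A).map A.subtype := by
    intro y hy
    exact ⟨⟨y, hRA hy⟩, hS hy, rfl⟩
  have h2 := h.sylow hx hr.out (by rw [← hM]; exact hmem) hne hSA (S.2.map _) hRS
  have hSR : (S : Subgroup A) = R.subgroupOf A := by
    rw [← h2]
    ext y
    rw [mem_subgroupOf]
    constructor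
    · intro hy
      exact ⟨y, hy, rfl⟩
    · rintro ⟨z, hz, e⟩
      rw [← (Subtype.ext e : z = y)]
      exact hz
  have hN : normalizer ((S : Subgroup A) : Set A) = M.subgroupOf A := by
    ext a
    rw [mem_subgroupOf]
    constructor
    · intro ha
      have h3 : (a : Q) ∈ cj x A := by
        refine h.norm_aut hx (K := R) (by rw [← hM]; exact hRM) ?_ hne a.2 ?_
        · intro σ hσ k hk
          rw [← hM] at hσ
          obtain ⟨h1, l, hl⟩ := (hmem k).1 hk
          exact (hmem _).2 ⟨hσ k h1, l, by rw [← map_pow, hl, map_one]⟩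
        · intro k hk
          have h4 : (⟨k, hRA hk⟩ : A) ∈ (S : Subgroup A) := by
            rw [hSR]
            exact hk
          have h5 := (mem_normalizer_iff.1 ha _).1 h4
          rw [hSR] at h5
          exact h5
      rw [hM]
      exact ⟨a.2, h3⟩
    · intro ha
      have key : ∀ a : A, (a : Q) ∈ M → ∀ s : A, s ∈ (S : Subgroup A) → a * s * a⁻¹ ∈ (S : Subgroup A) := by
        intro a ha s hs
        rw [hSR, mem_subgroupOf] at hs ⊢
        obtain ⟨h3, k, hk⟩ := (hmem _).1 hs
        refine (hmem _).2 ⟨?_, k, ?_⟩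
        · exact M.mul_mem (M.mul_mem ha h3) (M.inv_mem ha)
        · show ((a : Q) * s * (a : Q)⁻¹) ^ r ^ k = 1
          rw [conj_pow, hk]
          group
      rw [mem_normalizer_iff]
      intro s
      refine ⟨key a ha s, fun hs => ?_⟩
      have h3 := key a⁻¹ (M.inv_mem ha) _ hs
      have e : a⁻¹ * (a * s * a⁻¹) * a⁻¹⁻¹ = s := by group
      rwa [e] at h3
  refine ⟨Nat.card (Sylow r A), card_sylow_modEq_one r A, ?_⟩
  have hN' : (normalizer (S : Set A)).index = (M.subgroupOf A).index := congrArg Subgroup.index hN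
  rw [Sylow.card_eq_index_normalizer S, hN', mul_comm]
  have h3 : Nat.card (M.subgroupOf A) = Nat.card M := Nat.card_congr (Subgroup.subgroupOfEquivOfLe hMA).toEquiv
  rw [← h3, Subgroup.card_mul_index]

theorem comm_of_prime {M : Type*} [Group M] [Finite M] (h : (Nat.card M).Prime) : ∀ a b : M, a * b = b * a := by
  have : Fact (Nat.card M).Prime := ⟨h⟩
  have hc : IsCyclic M := isCyclic_of_prime_card (p := Nat.card M) rfl
  intro a b
  exact (IsCyclic.isMulCommutative (α := M)).is_comm.comm a b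

/-- `|A ∩ A^x| ≥ 8` -/
theorem eight_le (h : EPT A Γ) {x : Q} (hx : x ∉ A) (hnc : ¬ ∀ a ∈ A ⊓ cj x A, ∀ b ∈ A ⊓ cj x A, a * b = b * a)
    (h6 : 6 ≤ Nat.card (A ⊓ cj x A : Subgroup Q)) (h3 : (Nat.card A).factorization 3 = 5) :
    8 ≤ Nat.card (A ⊓ cj x A : Subgroup Q) := by
  obtain ⟨M, hM⟩ : ∃ M : Subgroup Q, M = A ⊓ cj x A := ⟨_, rfl⟩
  rw [← hM] at hnc h6 ⊢
  by_contra hcon
  push Not at hcon
  have h7 : Nat.card M = 6 ∨ Nat.card M = 7 := by omega
  rcases h7 with h7 | h7
  · have : Fact (Nat.Prime 3) := ⟨Nat.prime_three⟩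
    have P : Sylow 3 M := default
    have h8 := sylow_fac h hx hM P (normal_six h7 P) (by rw [h7]; norm_num)
    rw [h3, card_sylow (r := 3) (m := 2) h7 (by norm_num) P] at h8
    norm_num at h8
  · apply hnc
    intro a ha b hb
    exact Subtype.ext_iff.1 (comm_of_prime (by rw [h7]; norm_num) (⟨a, ha⟩ : M) ⟨b, hb⟩)

/-- `|A ∩ A^x| ≥ 13` -/
theorem thirteen_le (h : EPT A Γ) {x : Q} (hx : x ∉ A) (hnc : ¬ ∀ a ∈ A ⊓ cj x A, ∀ b ∈ A ⊓ cj x A, a * b = b * a)
    (h8 : 8 ≤ Nat.card (A ⊓ cj x A : Subgroup Q)) (h2 : 4 ≤ (Nat.card A).factorization 2)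
    (h3 : (Nat.card A).factorization 3 = 5) (h5 : ∀ n, Nat.card A = n * 10 → ¬ n ≡ 1 [MOD 5]) :
    13 ≤ Nat.card (A ⊓ cj x A : Subgroup Q) := by
  obtain ⟨M, hM⟩ : ∃ M : Subgroup Q, M = A ⊓ cj x A := ⟨_, rfl⟩
  rw [← hM] at hnc h8 ⊢
  have : Fact (Nat.Prime 2) := ⟨Nat.prime_two⟩
  have : Fact (Nat.Prime 3) := ⟨Nat.prime_three⟩
  have : Fact (Nat.Prime 5) := ⟨Nat.prime_five⟩
  have hcomm : ¬ ∀ a b : M, a * b = b * a := fun hc => hnc fun a ha b hb =>
    Subtype.ext_iff.1 (hc (⟨a, ha⟩ : M) ⟨b, hb⟩)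
  by_contra hcon
  push Not at hcon
  have h7 : Nat.card M = 8 ∨ Nat.card M = 9 ∨ Nat.card M = 10 ∨ Nat.card M = 11 ∨ Nat.card M = 12 := by omega
  rcases h7 with h7 | h7 | h7 | h7 | h7
  · have P : Sylow 2 M := default
    have hP : Nat.card P = 8 := by
      have h9 := P.card_eq_multiplicity
      rw [h7, show (8 : ℕ) = 2 ^ 3 by norm_num, Nat.prime_two.factorization_pow, Finsupp.single_eq_same] at h9
      rw [h9]
      norm_num
    have hPt : (P : Subgroup M) = ⊤ := by
      apply Subgroup.eq_top_of_card_eq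
      rw [h7]
      exact hP
    have h9 := sylow_fac h hx hM P (by rw [hPt]; infer_instance) (by rw [h7]; norm_num)
    rw [hP] at h9
    have h10 : 2 ^ 4 ≤ 2 ^ (Nat.card A).factorization 2 := Nat.pow_le_pow_right (by norm_num) h2
    rw [← h9] at h10
    norm_num at h10
  · apply hcomm
    have h9 : Nat.card M = 3 ^ 2 := by rw [h7]; norm_num
    have := IsPGroup.isMulCommutative_of_card_eq_prime_sq h9
    exact fun a b => mul_comm' a b
  · have P : Sylow 5 M := default
    obtain ⟨n, hn, hc⟩ := sylow_count h hx hM P (normal_ten h7 P) (by rw [h7]; norm_num)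
    rw [h7] at hc
    exact h5 n hc hn
  · exact hcomm (comm_of_prime (by rw [h7]; norm_num))
  · rcases order_twelve h7 with h9 | h9
    · have P : Sylow 3 M := default
      have h10 := sylow_fac h hx hM P (h9 P) (by rw [h7]; norm_num)
      rw [h3, card_sylow (r := 3) (m := 4) h7 (by norm_num) P] at h10
      norm_num at h10
    · have P : Sylow 2 M := default
      have h10 := sylow_fac h hx hM P (h9 P).1 (by rw [h7]; norm_num)
      rw [(h9 P).2] at h10
      have h11 : 2 ^ 4 ≤ 2 ^ (Nat.card A).factorization 2 := Nat.pow_le_pow_right (by norm_num) h2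
      rw [← h10] at h11
      norm_num at h11

end Cfsg.Agent.H896.EP
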