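import Cfsg.Agent.H284.EP.TForm
import Cfsg.Agent.H896.EP.BT
import Cfsg.Agent.Lib.Cores

/-!
# S3499-IV-L U5(2) (helper896), part 4: the groups `A ∩ A^x` with a normal `p`-subgroup in `N`

`N ≤ A` simple, normal in `A`, `C_A(N) = 1`: `N` is invariant under `Γ`. If `O_p(M ∩ N) ≠ 1` for `M = A ∩ A^x`, then
`O_p(M ∩ N)` is a radical `p`-subgroup of `N` and `M` is its normaliser in `A`.
-/

set_option autoImplicit false
set_option linter.unusedSectionVars false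

namespace Cfsg.Agent.H896.EP

open Subgroup Cfsg.Agent.H284

variable {Q : Type*} [Group Q] [Finite Q] {A : Subgroup Q} {Γ : Subgroup (MulAut Q)} {N : Subgroup Q}

/-- `N` is invariant under `Γ` -/
theorem N_inv (h : EPT A Γ) (hN : N ≤ A) (hn : ∀ a ∈ A, ∀ n ∈ N, a * n * a⁻¹ ∈ N) (hNs : IsSimpleGroup N)
    (hC : ∀ a ∈ A, (∀ n ∈ N, a * n = n * a) → a = 1) : ∀ σ ∈ Γ, ∀ n ∈ N, σ n ∈ N := by
  intro σ hσ
  set N' : Subgroup Q := N.map σ.toMonoidHom with hN'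
  have hN'A : N' ≤ A := by
    rintro _ ⟨n, hn', rfl⟩
    exact (h.inv σ hσ n).2 (hN hn')
  have hN'n : ∀ a ∈ A, ∀ n ∈ N', a * n * a⁻¹ ∈ N' := by
    rintro a ha _ ⟨n, hn', rfl⟩
    have h1 : σ⁻¹ a ∈ A := (h.inv _ (inv_mem hσ) a).2 ha
    refine ⟨σ⁻¹ a * n * (σ⁻¹ a)⁻¹, hn _ h1 n hn', ?_⟩
    show σ (σ⁻¹ a * n * (σ⁻¹ a)⁻¹) = a * σ n * a⁻¹
    have h2 : σ (σ⁻¹ a) = a := MulAut.apply_inv_self _ _ _
    rw [map_mul, map_mul, map_inv, h2]
  have hnorm : (N'.subgroupOf N).Normal := ⟨fun k hk n => hN'n n (hN n.2) k hk⟩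
  have hcard : Nat.card N' = Nat.card N := (Nat.card_congr (N.equivMapOfInjective _ σ.injective).toEquiv).symm
  rcases hNs.eq_bot_or_eq_top_of_normal _ hnorm with h1 | h1
  · exfalso
    rw [Subgroup.subgroupOf_eq_bot, disjoint_iff] at h1
    have h2 : N' = ⊥ := by
      rw [Subgroup.eq_bot_iff_forall]
      intro k hk
      apply hC k (hN'A hk)
      intro n hn'
      have h3 : k * n * k⁻¹ * n⁻¹ ∈ N' ⊓ N := by
        refine mem_inf.2 ⟨?_, N.mul_mem (hn k (hN'A hk) n hn') (N.inv_mem hn')⟩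
        have e : k * n * k⁻¹ * n⁻¹ = k * (n * k⁻¹ * n⁻¹) := by group
        rw [e]
        exact N'.mul_mem hk (hN'n n (hN hn') _ (N'.inv_mem hk))
      rw [h1, mem_bot, mul_inv_eq_one, mul_inv_eq_iff_eq_mul] at h3
      exact h3
    rw [h2, Subgroup.card_bot] at hcard
    have h3 : 1 < Nat.card N := Finite.one_lt_card
    omega
  · rw [Subgroup.subgroupOf_eq_top] at h1
    have h2 : N = N' := Subgroup.eq_of_le_of_card_ge h1 hcard.le
    intro n hn'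
    rw [h2]
    exact ⟨n, hn', rfl⟩

/-- invariance of `O_p` -/
theorem pCore_inv {M : Subgroup Q} {p : ℕ} {σ : MulAut Q} (hσ : ∀ y ∈ M, σ y ∈ M) :
    ∀ k ∈ (Cfsg.pCore p M).map M.subtype, σ k ∈ (Cfsg.pCore p M).map M.subtype := by
  have hs : ∀ y : M, σ y ∈ M := fun y => hσ y y.2
  let f : M →* M := (σ.toMonoidHom.comp (Subgroup.subtype _)).codRestrict _ hs
  have hf : Function.Injective f := by
    intro y z e
    have e' : σ y = σ z := Subtype.ext_iff.1 e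
    exact Subtype.ext (σ.injective e')
  let τ : MulAut M := MulEquiv.ofBijective f (Finite.injective_iff_bijective.1 hf)
  have hτ : (Cfsg.pCore p M).map τ.toMonoidHom = Cfsg.pCore p M :=
    Subgroup.characteristic_iff_map_eq.1 (Cfsg.Agent.Lib.Cores.pCore_characteristic p) τ
  rintro _ ⟨k, hk, rfl⟩
  have h1 : τ k ∈ Cfsg.pCore p M := by
    rw [← hτ]
    exact ⟨k, hk, rfl⟩
  exact ⟨τ k, h1, rfl⟩

/-- `O_p(M)` as a subgroup of `Q` -/
def OP (p : ℕ) (M : Subgroup Q) : Subgroup Q := (Cfsg.pCore p M).map M.subtype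

theorem OP_le (p : ℕ) (M : Subgroup Q) : OP p M ≤ M := by
  rintro _ ⟨z, _, rfl⟩
  exact z.2

theorem OP_pg (p : ℕ) [Fact p.Prime] (M : Subgroup Q) : IsPGroup p (OP p M) :=
  (Cfsg.Agent.Lib.Cores.pCore_isPGroup p).map _

theorem le_OP {p : ℕ} {M R : Subgroup Q} (hR : R ≤ M) (hp : IsPGroup p R) (hn : ∀ m ∈ M, ∀ r ∈ R, m * r * m⁻¹ ∈ R) :
    R ≤ OP p M := by
  have h1 : (R.subgroupOf M).Normal := ⟨fun k hk n => hn n n.2 k hk⟩
  have h2 := Cfsg.Agent.Lib.Cores.le_pCore h1 (p := p) (hp.comap_subtype)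
  intro r hr
  exact ⟨⟨r, hR hr⟩, h2 hr, rfl⟩

theorem mem_iff_norm (h : EPT A Γ) (hinv : ∀ σ ∈ Γ, ∀ n ∈ N, σ n ∈ N) {x : Q} (hx : x ∉ A) {M : Subgroup Q}
    (hM : M = A ⊓ cj x A) {p : ℕ} (hne : OP p (M ⊓ N) ≠ ⊥) (a : Q) :
    a ∈ M ↔ a ∈ A ∧ ∀ k ∈ OP p (M ⊓ N), a * k * a⁻¹ ∈ OP p (M ⊓ N) := by
  have hKM : OP p (M ⊓ N) ≤ A ⊓ cj x A := by
    rw [← hM]
    exact (OP_le p (M ⊓ N)).trans inf_le_left
  have hKinv : ∀ σ ∈ Γ, x⁻¹ * σ x ∈ A → ∀ k ∈ OP p (M ⊓ N), σ k ∈ OP p (M ⊓ N) := by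
    intro σ hσ hσx
    apply pCore_inv
    intro y hy
    have hy' := mem_inf.1 hy
    refine mem_inf.2 ⟨?_, hinv σ hσ y hy'.2⟩
    rw [hM] at hy' ⊢
    exact h.stab_M0 hσ hσx hy'.1
  constructor
  · intro ha
    have ha' := ha
    rw [hM] at ha'
    refine ⟨(mem_inf.1 ha').1, ?_⟩
    apply hKinv (MulAut.conj a) ((h.conj a).2 (mem_inf.1 ha').1)
    exact (h.conj_stab (mem_inf.1 ha').1).2 (mem_inf.1 ha').2
  · rintro ⟨ha, hk⟩
    rw [hM]
    refine mem_inf.2 ⟨ha, ?_⟩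
    rw [← h.conj_stab ha]
    exact h.norm x hx _ hKM hKinv hne _ ((h.conj a).2 ha) hk

/-- `O_p(M ∩ N)` is radical in `N` -/
theorem radical_OP (h : EPT A Γ) (hN : N ≤ A) (hinv : ∀ σ ∈ Γ, ∀ n ∈ N, σ n ∈ N) {x : Q} (hx : x ∉ A)
    {M : Subgroup Q} (hM : M = A ⊓ cj x A) {p : ℕ} [Fact p.Prime] (hne : OP p (M ⊓ N) ≠ ⊥) :
    Radical p ((OP p (M ⊓ N)).subgroupOf N) := by
  have hKN : OP p (M ⊓ N) ≤ N := (OP_le p (M ⊓ N)).trans inf_le_right
  have hnorm : ∀ n : N, n ∈ normalizer (((OP p (M ⊓ N)).subgroupOf N : Subgroup N) : Set N) ↔ (n : Q) ∈ M := by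
    intro n
    rw [mem_iff_norm h hinv hx hM hne]
    constructor
    · intro hn'
      refine ⟨hN n.2, fun k hk => ?_⟩
      exact (mem_normalizer_iff.1 hn' ⟨k, hKN hk⟩).1 hk
    · rintro ⟨_, hk⟩
      -- finite
      have hsub : (OP p (M ⊓ N)).map (MulAut.conj (n : Q)).toMonoidHom = OP p (M ⊓ N) := by
        apply Subgroup.eq_of_le_of_card_ge
        · rintro _ ⟨k, hk', rfl⟩
          exact hk k hk'
        · exact (Nat.card_congr ((OP p (M ⊓ N)).equivMapOfInjective _ (MulAut.conj (n : Q)).injective).toEquiv).le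
      rw [mem_normalizer_iff]
      intro m
      constructor
      · intro hm
        exact hk m hm
      · intro hm
        have h1 : ((n : Q) * m * (n : Q)⁻¹) ∈ OP p (M ⊓ N) := hm
        rw [← hsub] at h1
        obtain ⟨k, hk', e⟩ := h1
        have e' : (n : Q) * k * (n : Q)⁻¹ = (n : Q) * m * (n : Q)⁻¹ := e
        have e2 : k = m := mul_left_cancel (mul_right_cancel e')
        show (m : Q) ∈ OP p (M ⊓ N)
        rw [← e2]
        exact hk'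
  refine ⟨(OP_pg p (M ⊓ N)).comap_subtype, ?_, ?_⟩
  · intro e
    rw [Subgroup.subgroupOf_eq_bot, disjoint_iff, inf_eq_left.2 hKN] at e
    exact hne e
  · intro R hR hRn hRnn
    -- `R ≤ M ∩ N`, normalised by `M ∩ N`
    have h1 : R.map N.subtype ≤ OP p (M ⊓ N) := by
      apply le_OP
      · rintro _ ⟨r, hr, rfl⟩
        exact mem_inf.2 ⟨(hnorm r).1 (hRn hr), r.2⟩
      · exact hR.map _
      · rintro m hm _ ⟨r, hr, rfl⟩
        have hm' := mem_inf.1 hm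
        exact ⟨_, hRnn ⟨m, hm'.2⟩ ((hnorm _).2 hm'.1) r hr, rfl⟩
    intro r hr
    exact h1 ⟨r, hr, rfl⟩

/-- **the number of the `M = A ∩ A^x` with `O_p(M ∩ N) ≠ 1`** -/
theorem ncard_OP_le (h : EPT A Γ) (hN : N ≤ A) (hinv : ∀ σ ∈ Γ, ∀ n ∈ N, σ n ∈ N) (p : ℕ) [Fact p.Prime] :
    {M : Subgroup Q | (∃ x, x ∉ A ∧ M = A ⊓ cj x A) ∧ OP p (M ⊓ N) ≠ ⊥}.ncard ≤
      {K : Subgroup N | Radical p K}.ncard := by
  refine Set.ncard_le_ncard_of_injOn (fun M => (OP p (M ⊓ N)).subgroupOf N) ?_ ?_ (Set.toFinite _)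
  · rintro M ⟨⟨x, hx, hM⟩, hne⟩
    exact radical_OP h hN hinv hx hM hne
  · rintro M ⟨⟨x, hx, hM⟩, hne⟩ M' ⟨⟨x', hx', hM'⟩, hne'⟩ e
    have e1 : OP p (M ⊓ N) = OP p (M' ⊓ N) := by
      have e2 := congrArg (Subgroup.map N.subtype) e
      simp only [Subgroup.subgroupOf_map_subtype] at e2
      rwa [inf_eq_left.2 ((OP_le p (M ⊓ N)).trans inf_le_right),
        inf_eq_left.2 ((OP_le p (M' ⊓ N)).trans inf_le_right)] at e2
    ext a
    rw [mem_iff_norm h hinv hx hM hne, mem_iff_norm h hinv hx' hM' hne', e1]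

end Cfsg.Agent.H896.EP
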