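import Cfsg.Agent.H896.EP.Small
import Cfsg.Agent.H896.EP.Two
import Cfsg.Agent.H896.EP.Gen
import Cfsg.Agent.H59.EP.UB
import Cfsg.Agent.H173.EP.LineBound

/-!
# S3499-IV-L U5(2) (helper896), part 5: the number of the groups `A ∩ A^x`
-/

set_option autoImplicit false
set_option linter.unusedSectionVars false

namespace Cfsg.Agent.H896.EP

open Subgroup Cfsg.Agent.H284 Cfsg.Agent.H59.EP

/-- the minimal characteristic subgroup (the proof is part of `H59.EP.ncard_le`) -/
theorem exists_X {B : Type*} [Group B] [Finite B] (h5 : ∀ p, p.Prime → 5 ≤ p → ¬ p ^ 2 ∣ Nat.card B)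
    {M : Subgroup B} (hM : M ≠ ⊥)
    (hch : ∀ K : Subgroup M, K.Characteristic → K ≠ ⊥ → ∀ b : B,
      (∀ k ∈ K.map M.subtype, b * k * b⁻¹ ∈ K.map M.subtype) → b ∈ M) :
    ∃ X : Subgroup B, normalizer (X : Set B) = M ∧ X ≤ M ∧
      ((∃ s ∈ (Nat.card B).primeFactors, ElAb s X ∧ X ≠ ⊥) ∨ (IsSimpleGroup X ∧ ¬ Group.IsSolvable X)) := by
  have hMn : Nontrivial M := (Subgroup.nontrivial_iff_ne_bot M).2 hM
  obtain ⟨Y, hY, hYne, hYmin⟩ := exists_min_char (B := M)
  have hYn : Nontrivial Y := (Subgroup.nontrivial_iff_ne_bot Y).2 hYne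
  have hYc : ∀ Z : Subgroup Y, Z.Characteristic → Z = ⊥ ∨ Z = ⊤ := by
    intro Z hZ
    by_cases hZb : Z = ⊥
    · exact Or.inl hZb
    right
    have h1 := hYmin (Z.map Y.subtype) char_trans (by
      rintro _ ⟨z, _, rfl⟩
      exact z.2) (by
      intro e
      rw [Subgroup.map_eq_bot_iff_of_injective _ Y.subtype_injective] at e
      exact hZb e)
    rw [Subgroup.eq_top_iff']
    intro y
    have h2 : (y : M) ∈ Z.map Y.subtype := by rw [h1]; exact y.2
    obtain ⟨z, hz, e⟩ := h2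
    have : z = y := Subtype.ext e
    rw [← this]
    exact hz
  set X : Subgroup B := Y.map M.subtype with hX
  have hcard : Nat.card X = Nat.card Y :=
    (Nat.card_congr (Y.equivMapOfInjective _ M.subtype_injective).toEquiv).symm
  have e : Y ≃* X := Y.equivMapOfInjective _ M.subtype_injective
  have hXB : Nat.card Y ∣ Nat.card B := by
    rw [← hcard]
    exact Subgroup.card_subgroup_dvd_card X
  have hXne : X ≠ ⊥ := by
    intro e
    rw [hX, Subgroup.map_eq_bot_iff_of_injective _ M.subtype_injective] at e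
    exact hYne e
  refine ⟨X, ?_, ?_, ?_⟩
  · apply le_antisymm
    · intro b hb
      exact hch Y hY hYne b fun k hk => (mem_normalizer_iff.1 hb k).1 hk
    · intro m hm
      have hn : Y.Normal := inferInstance
      rw [mem_normalizer_iff]
      have key : ∀ m ∈ M, ∀ k ∈ X, m * k * m⁻¹ ∈ X := by
        rintro m hm _ ⟨k, hk, rfl⟩
        exact ⟨_, hn.conj_mem k hk ⟨m, hm⟩, rfl⟩
      intro k
      refine ⟨key m hm k, fun h => ?_⟩
      have := key m⁻¹ (M.inv_mem hm) _ h
      have e : m⁻¹ * (m * k * m⁻¹) * m⁻¹⁻¹ = k := by group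
      rwa [e] at this
  · rintro _ ⟨y, _, rfl⟩
    exact y.2
  · rcases char_simple hYc (fun p hp hp5 hd => h5 p hp hp5 (hd.trans hXB)) with ⟨s, hs, hsd, hel⟩ | ⟨h1, h2⟩
    · left
      refine ⟨s, Nat.mem_primeFactors.2 ⟨hs, hsd.trans hXB, Nat.card_pos.ne'⟩, ⟨?_, ?_⟩, hXne⟩
      · rintro _ ⟨a, ha, rfl⟩ _ ⟨b, hb, rfl⟩
        have := hel.comm ⟨a, ha⟩ (mem_top _) ⟨b, hb⟩ (mem_top _)
        have h1 : a * b = b * a := Subtype.ext_iff.1 this
        rw [← map_mul, ← map_mul, h1]
      · rintro _ ⟨a, ha, rfl⟩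
        have := hel.exp ⟨a, ha⟩ (mem_top _)
        have h1 : a ^ s = 1 := Subtype.ext_iff.1 this
        rw [← map_pow, h1, map_one]
    · right
      have hXs : IsSimpleGroup X := e.symm.isSimpleGroup
      refine ⟨hXs, fun h => h2 ?_⟩
      exact Group.isSolvable_of_isSolvable_injective (f := e.toMonoidHom) e.injective

universe u

variable {Q : Type u} [Group Q] [Finite Q] {A : Subgroup Q} {Γ : Subgroup (MulAut Q)} {N : Subgroup Q}

/-- the groups `M ≤ A` which are normalisers in `A` of subgroups in `𝒞` -/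
theorem ncard_norm_le (𝒞 : Set (Subgroup A)) :
    {M : Subgroup Q | M ≤ A ∧ ∃ X ∈ 𝒞, normalizer (X : Set A) = M.subgroupOf A}.ncard ≤ 𝒞.ncard := by
  have hsub : {M : Subgroup Q | M ≤ A ∧ ∃ X ∈ 𝒞, normalizer (X : Set A) = M.subgroupOf A} ⊆
      (fun X : Subgroup A => (normalizer (X : Set A)).map A.subtype) '' 𝒞 := by
    rintro M ⟨hMA, X, hX, e⟩
    refine ⟨X, hX, ?_⟩
    show (normalizer (X : Set A)).map A.subtype = M
    rw [e, Subgroup.subgroupOf_map_subtype, inf_eq_left.2 hMA]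
  exact (Set.ncard_le_ncard hsub (Set.toFinite _)).trans (Set.ncard_image_le (Set.toFinite _))

theorem ncard_two_le {B : Type*} [Group B] [Finite B] : {X : Subgroup B | Nat.card X = 2}.ncard ≤ Nat.card B := by
  have hsub : {X : Subgroup B | Nat.card X = 2} ⊆ Set.range fun t : B => zpowers t := by
    intro X hX
    have hX' : Nat.card X = 2 := hX
    obtain ⟨t, ht⟩ : ∃ t : X, t ≠ 1 := by
      have : Nontrivial X := by
        rw [← Finite.one_lt_card_iff_nontrivial, hX']
        norm_num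
      exact exists_ne 1
    refine ⟨(t : B), ?_⟩
    apply Subgroup.eq_of_le_of_card_ge
    · rw [zpowers_le]
      exact t.2
    · rw [hX']
      show 2 ≤ Nat.card (zpowers (t : B))
      have h1 : Nat.card (zpowers (t : B)) ≠ 1 := by
        rw [Nat.card_zpowers, Ne, orderOf_eq_one_iff]
        exact fun e => ht (Subtype.ext e)
      have h2 : 0 < Nat.card (zpowers (t : B)) := Nat.card_pos
      omega
  refine (Set.ncard_le_ncard hsub (Set.toFinite _)).trans ?_
  rw [← Set.image_univ]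
  refine (Set.ncard_image_le (Set.toFinite _)).trans ?_
  rw [Set.ncard_univ]

/-- a subgroup `X` with `X ∩ N = 1`, `|B| ≤ 2 |N|` has order at most two -/
theorem card_le_two {B : Type*} [Group B] [Finite B] {N X : Subgroup B} [N.Normal] (h : X ⊓ N = ⊥)
    (hc : Nat.card B ≤ 2 * Nat.card N) : Nat.card X ≤ 2 := by
  have h1 := Nat.le_of_dvd Nat.card_pos (card_mul_dvd h)
  have h2 : Nat.card X * Nat.card N ≤ 2 * Nat.card N := h1.trans hc
  exact Nat.le_of_mul_le_mul_right h2 Nat.card_pos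

/-- **the number of the `A ∩ A^x`** -/
theorem ncard_M_le (h : EPT A Γ) (hN : N ≤ A) (hn : ∀ a ∈ A, ∀ n ∈ N, a * n * a⁻¹ ∈ N) (hNs : IsSimpleGroup N)
    (hC : ∀ a ∈ A, (∀ n ∈ N, a * n = n * a) → a = 1) (hcA : Nat.card A ≤ 2 * Nat.card N)
    (h5 : ∀ p, p.Prime → 5 ≤ p → ¬ p ^ 2 ∣ Nat.card A) {c : ℕ}
    (hc : ∀ x, x ∉ A → ((A ⊓ cj x A).subgroupOf A).index ≤ c) {k : ℕ}
    (hrad : {K : Subgroup N | Radical 2 K}.ncard ≤ k)
    (hg : ∀ X : Subgroup A, IsSimpleGroup X → ¬ Group.IsSolvable X →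
      (∃ a b : X, closure ({a, b} : Set X) = ⊤) ∧ (Nat.card X < 360 → Nat.card X = 60)) :
    {M : Subgroup Q | ∃ x, x ∉ A ∧ M = A ⊓ cj x A}.ncard ≤
      (∑ s ∈ (Nat.card A).primeFactors.erase 2, gal s ((Nat.card A).factorization s)) * c + k + Nat.card A +
        Nat.card N ^ 2 / 360 := by
  classical
  have : Fact (Nat.Prime 2) := ⟨Nat.prime_two⟩
  have hinv := N_inv h hN hn hNs hC
  have hNn : (N.subgroupOf A).Normal := ⟨fun n hn' a => hn a a.2 n hn'⟩
  have hcN : Nat.card (N.subgroupOf A) = Nat.card N := Nat.card_congr (Subgroup.subgroupOfEquivOfLe hN).toEquiv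
  set 𝓜 : Set (Subgroup Q) := {M | ∃ x, x ∉ A ∧ M = A ⊓ cj x A} with h𝓜
  let 𝒞 : ℕ → Set (Subgroup A) := fun s => {X | ElAb s X ∧ X ≠ ⊥ ∧ (normalizer (X : Set A)).index ≤ c}
  let 𝒯 : Set (Subgroup A) := {X | Nat.card X = 2}
  let 𝒮 : Set (Subgroup A) := {X | (IsSimpleGroup X ∧ ¬ Group.IsSolvable X) ∧ X ≤ N.subgroupOf A}
  let cl : Set (Subgroup A) → Set (Subgroup Q) := fun 𝒞 =>
    {M : Subgroup Q | M ≤ A ∧ ∃ X ∈ 𝒞, normalizer (X : Set A) = M.subgroupOf A}
  let 𝓞 : Set (Subgroup Q) := {M : Subgroup Q | (∃ x, x ∉ A ∧ M = A ⊓ cj x A) ∧ OP 2 (M ⊓ N) ≠ ⊥}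
  have hsub : 𝓜 ⊆ (((⋃ s ∈ (Nat.card A).primeFactors.erase 2, cl (𝒞 s)) ∪ 𝓞) ∪ cl 𝒯) ∪ cl 𝒮 := by
    rintro M ⟨x, hx, hM⟩
    have hMA : M ≤ A := hM ▸ inf_le_left
    have hMne : M.subgroupOf A ≠ ⊥ := by
      intro e
      rw [Subgroup.subgroupOf_eq_bot] at e
      apply h.M0 x hx
      rw [← hM]
      exact e.eq_bot_of_le hMA
    have hch : ∀ K : Subgroup (M.subgroupOf A), K.Characteristic → K ≠ ⊥ → ∀ b : A,
        (∀ k ∈ K.map (M.subgroupOf A).subtype, b * k * b⁻¹ ∈ K.map (M.subgroupOf A).subtype) → b ∈ M.subgroupOf A := by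
      subst hM
      intro K hK hne b hb
      set E : (A ⊓ cj x A).subgroupOf A ≃* (A ⊓ cj x A : Subgroup Q) :=
        Subgroup.subgroupOfEquivOfLe (inf_le_left : A ⊓ cj x A ≤ A) with hE
      have hch := char_map E hK
      have hn := h.norm_char hx (K.map E.toMonoidHom) (hK := hch) (by
        intro e
        rw [Subgroup.map_eq_bot_iff_of_injective _ E.injective] at e
        exact hne e) (a := (b : Q)) b.2 (by
        rintro _ ⟨_, ⟨k, hk, rfl⟩, rfl⟩
        obtain ⟨k', hk', e'⟩ := hb _ ⟨k, hk, rfl⟩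
        refine ⟨_, ⟨k', hk', rfl⟩, ?_⟩
        have e2 := congrArg (Subtype.val) e'
        exact e2)
      exact ⟨b.2, hn⟩
    obtain ⟨X, hX, hXM, hX1⟩ := exists_X h5 hMne hch
    have hidx : (normalizer (X : Set A)).index ≤ c := by
      rw [hX, hM]
      exact hc x hx
    rcases hX1 with ⟨s, hs, hel, hne⟩ | hX1
    · by_cases hs2 : s = 2
      · subst hs2
        by_cases hXN : X ⊓ N.subgroupOf A = ⊥
        · left; right
          have h1 := card_le_two hXN (by rw [hcN]; exact hcA)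
          refine ⟨hMA, X, ?_, hX⟩
          show Nat.card X = 2
          have h2 : Nat.card X ≠ 1 := by
            rw [Ne, Subgroup.card_eq_one]
            exact hne
          have h3 : 0 < Nat.card X := Nat.card_pos
          omega
        · left; left; right
          refine ⟨⟨x, hx, hM⟩, ?_⟩
          -- `X ∩ N` is normal in `M`
          set R : Subgroup Q := (X ⊓ N.subgroupOf A).map A.subtype with hR
          have hps : IsPGroup 2 X := by
            rintro ⟨y, hy⟩
            refine ⟨1, Subtype.ext ?_⟩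
            rw [pow_one]
            exact hel.exp y hy
          have h1 : R ≤ OP 2 (M ⊓ N) := by
            apply le_OP
            · rintro _ ⟨y, hy, rfl⟩
              have hy' := mem_inf.1 hy
              exact mem_inf.2 ⟨hXM hy'.1, hy'.2⟩
            · exact (hps.to_le inf_le_left).map _
            · rintro m hm _ ⟨y, hy, rfl⟩
              have hy' := mem_inf.1 hy
              have hmM := (mem_inf.1 hm).1
              have h2 : (⟨m, hMA hmM⟩ : A) ∈ normalizer (X : Set A) := by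
                rw [hX]
                exact hmM
              refine ⟨⟨m, hMA hmM⟩ * y * (⟨m, hMA hmM⟩ : A)⁻¹, mem_inf.2 ⟨(mem_normalizer_iff.1 h2 _).1 hy'.1, ?_⟩, rfl⟩
              exact hNn.conj_mem y hy'.2 _
          intro e
          apply hXN
          rw [e, le_bot_iff, hR, Subgroup.map_eq_bot_iff_of_injective _ A.subtype_injective] at h1
          exact h1
      · left; left; left
        simp only [Set.mem_iUnion]
        exact ⟨s, Finset.mem_erase.2 ⟨hs2, hs⟩, hMA, X, ⟨hel, hne, hidx⟩, hX⟩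
    · right
      refine ⟨hMA, X, ⟨hX1, ?_⟩, hX⟩
      have hnorm : ((N.subgroupOf A).subgroupOf X).Normal := inferInstance
      rcases hX1.1.eq_bot_or_eq_top_of_normal _ hnorm with h1 | h1
      · exfalso
        have h2 : X ⊓ N.subgroupOf A = ⊥ := by
          rw [Subgroup.subgroupOf_eq_bot, disjoint_iff, inf_comm] at h1
          exact h1
        have h3 := card_le_two h2 (by rw [hcN]; exact hcA)
        have h4 := Cfsg.Agent.H168.NoSolv.sixty_le hX1.2
        omega
      · rwa [Subgroup.subgroupOf_eq_top] at h1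
  -- the cardinalities
  have hfin : ∀ S : Set (Subgroup Q), S.Finite := fun S => Set.toFinite _
  have h1 : (⋃ s ∈ (Nat.card A).primeFactors.erase 2, cl (𝒞 s)).ncard ≤
      (∑ s ∈ (Nat.card A).primeFactors.erase 2, gal s ((Nat.card A).factorization s)) * c := by
    rw [Finset.sum_mul]
    have hun : ∀ I : Finset ℕ, (⋃ s ∈ I, cl (𝒞 s)).ncard ≤ ∑ s ∈ I, (cl (𝒞 s)).ncard := by
      intro I
      induction I using Finset.induction_on with
      | empty => simp
      | insert j I hj ih =>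
        rw [Finset.sum_insert hj, Finset.set_biUnion_insert]
        exact (Set.ncard_union_le _ _).trans (Nat.add_le_add_left ih _)
    refine (hun _).trans (Finset.sum_le_sum fun s hs => ?_)
    exact (ncard_norm_le (𝒞 s)).trans (ncard_elab_class_le (Nat.prime_of_mem_primeFactors (Finset.mem_of_mem_erase hs)))
  have h2 : 𝓞.ncard ≤ k := (ncard_OP_le h hN hinv 2).trans hrad
  have h3 : (cl 𝒯).ncard ≤ Nat.card A := (ncard_norm_le 𝒯).trans ncard_two_le
  have h4 : (cl 𝒮).ncard ≤ Nat.card N ^ 2 / 360 := by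
    refine (ncard_norm_le 𝒮).trans ?_
    rw [Nat.le_div_iff_mul_le (by norm_num), ← hcN]
    exact ncard_simple_le (fun X hX => hX.1) (fun X hX => hX.2) (fun X hX => hg X hX.1.1 hX.1.2)
  refine (Set.ncard_le_ncard hsub (hfin _)).trans ?_
  refine (Set.ncard_union_le _ _).trans (Nat.add_le_add ?_ h4)
  refine (Set.ncard_union_le _ _).trans (Nat.add_le_add ?_ h3)
  exact (Set.ncard_union_le _ _).trans (Nat.add_le_add h1 h2)

end Cfsg.Agent.H896.EP
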